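import Cfsg.Agent.Lib.Sporadic.OutCert.HS.Data
import Cfsg.Agent.Lib.Sporadic.OutCert.HS.DataClass

/-!
Kernel checks of the data for the automorphisms of the Higman-Sims group.
-/

set_option autoImplicit false
set_option maxRecDepth 100000
set_option maxHeartbeats 0

namespace CfsgLib.Sporadic.OutCert.HS

/-- Adjacency. -/
noncomputable def adjB (i j : ℕ) : Bool := Nat.testBit adjN (i * 100 + j)

/-- A number represents an automorphism of the graph. -/
noncomputable def autK (n : ℕ) : Bool :=
  allF (fun i => allF (fun j => adjB (lk 7 n i) (lk 7 n j) == adjB i j) 100) 100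

/-- The number of a word in the generators. -/
noncomputable def wk (l : List Bool) : ℕ := wordK 7 100 ka kb l

/-- The number of a power of `a`. -/
noncomputable def powA (j : ℕ) : ℕ := wk (List.replicate j false)

/-- Strong regularity at the first point. -/
noncomputable def srgK : Bool :=
  allF (fun i => (adjB i i == false) && allF (fun j => adjB i j == adjB j i) 100) 100 &&
    allF (fun j => (List.range 100).countP (fun k => adjB 0 k && adjB j k) ==
      if j == 0 then 22 else if adjB 0 j then 0 else 6) 100

/-- Certificate for the subgroup of order 512. -/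
noncomputable def sNodeK (gens : List ℕ) (k p g d : ℕ) : Bool :=
  (gens.all fun x => sTree.has (compK 7 100 x k)) &&
    ((d == 0 && k == oneK 7 100) || match sTree.get p with
      | none => false
      | some v => Nat.blt v.2.2 d && compK 7 100 (gens.getD g 0) p == k)

/-- The numbers of the generators of that subgroup. -/
noncomputable def sGens : List ℕ := [wk s0, wk s1, wk s2]

/-- Every involution of the subgroup has a conjugating word. -/
noncomputable def invK (k : ℕ) : Bool :=
  k == oneK 7 100 || !(compK 7 100 k k == oneK 7 100) ||
    invTab.any fun e => e.1 == k &&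
      compK 7 100 (wk e.2.1) (if e.2.2.2 then kbp else kb) == compK 7 100 k (wk e.2.1)

/-- The class is closed under the generators. -/
noncomputable def lNodeK (k : ℕ) : Bool :=
  lTree.has (conjK 7 100 ka kai k) && lTree.has (conjK 7 100 kb kb k)

/-- The exponents of `a` multiplied by `m`. -/
def testWord (m k : ℕ) (es : List ℕ) : List ℕ :=
  es.flatMap fun e => [aPows.getD (e * m % 11) 0, k]

/-- A key fails a test or is a conjugate of the candidate by a power of `a`. -/
noncomputable def survK (orb1 orb2 : List ℕ) (k : ℕ) : Bool :=
  (tests.any (fun t => !testK 7 100 (testWord 1 k t.1) t.2) || orb1.contains k) &&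
  (tests.any (fun t => !testK 7 100 (testWord 2 k t.1) t.2) || orb2.contains k)

/-- Conjugates of a key by the powers of `a`. -/
noncomputable def orbA (k : ℕ) : List ℕ :=
  (List.range 11).map fun i => conjK 7 100 (powA i) (powA (11 - i)) k

/-- Images of eight points under a conjugate of the other involution. -/
noncomputable def proj (i j : ℕ) : ℕ :=
  pk 7 ((List.range 8).map fun x =>
    appK 7 [wk (uTab.getD i ([], 0)).1, wk (vTab.getD j ([], 0)).1, kbp,
      (vTab.getD j ([], 0)).2, (uTab.getD i ([], 0)).2] x)

end CfsgLib.Sporadic.OutCert.HS
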