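import Cfsg.Agent.Lib.Sporadic.OutCert.HS.Defs

/-!
Kernel checks of the data for the automorphisms of the Higman-Sims group.
-/

set_option autoImplicit false
set_option maxRecDepth 100000
set_option maxHeartbeats 0

namespace CfsgLib.Sporadic.OutCert.HS

theorem s_closed : sTree.has (oneK 7 100) = true ∧
    sTree.every (fun k p g d => sNodeK sGens k p g d) = true ∧
    List.IsChain (· < ·) (sTree.entries.map Prod.fst) ∧ sTree.entries.length = 512 := by
  decide +kernel

end CfsgLib.Sporadic.OutCert.HS
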