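import Cfsg.Agent.Lib.Sporadic.OutCert.HS.Graph
import Cfsg.Agent.Lib.Sporadic.OutCert.HS.CheckSylow
import Cfsg.Agent.Lib.Sporadic.OutCert.Out

/-!
The two permutations generate the image of the Higman-Sims group, with an explicit Sylow 2-subgroup.
-/

set_option autoImplicit false
set_option maxRecDepth 10000

namespace CfsgLib.Sporadic.OutCert.HS

open Cfsg

attribute [local irreducible] lk pkF allF compK adjN ka kai kb kz kt sTree

theorem sign_eq_one_of_odd {x : P} {n : ℕ} (hn : Odd n) (h : x ^ n = 1) : Equiv.Perm.sign x = 1 := by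
  have hx := congrArg Equiv.Perm.sign h
  rw [map_pow, map_one] at hx
  rcases Int.units_eq_one_or (Equiv.Perm.sign x) with e | e
  · exact e
  · rw [e, hn.neg_one_pow] at hx
    exact absurd hx (by decide)

theorem prod_tauSwaps : (tauSwaps.map fun s => Equiv.swap s.1 s.2).prod = pT := by
  refine Equiv.ext fun i => Fin.ext ?_
  rw [tau_swaps i]
  exact (rep_T i)
theorem sign_swaps (l : List (Fin 100 × Fin 100)) (hne : ∀ s ∈ l, s.1 ≠ s.2) :
  Equiv.Perm.sign (l.map fun s => Equiv.swap s.1 s.2).prod = (-1) ^ l.length := by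
  induction l with
  | nil => rfl
  | cons a l ih =>
    rw [List.map_cons, List.prod_cons, map_mul, ih (fun s hs => hne s (List.mem_cons_of_mem _ hs)), Equiv.Perm.sign_swap (hne a List.mem_cons_self), List.length_cons, pow_succ']
theorem tauSwaps_ne : ∀ s ∈ tauSwaps, s.1 ≠ s.2 := fun s hs => by
  have h : (tauSwaps.all fun s => !(s.1.1 == s.2.1)) = true := by decide +kernel
  have := List.all_eq_true.1 h s hs
  exact fun e => by simp [e] at this
theorem sign_T : Equiv.Perm.sign pT = -1 := by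
  rw [← prod_tauSwaps, sign_swaps _ tauSwaps_ne, show tauSwaps.length = 35 by decide +kernel]
  exact Odd.neg_one_pow ⟨17, rfl⟩

theorem single {n : ℕ} {g : P} (h : Rep 7 100 n g) {m : ℕ} (ht : testK 7 100 [n] m = true) : g ^ m = 1 := by
  have := (test_iff (List.Forall₂.cons h List.Forall₂.nil) m).1 ht
  simpa using this

/-- The number of a permutation. -/
noncomputable def key (g : P) : ℕ := pkF 7 (fun i => if h : i < 100 then (g ⟨i, h⟩ : ℕ) else 0) 100 0

theorem pkF_congr {f f' : ℕ → ℕ} (h : ∀ i < 100, f i = f' i) : pkF 7 f 100 0 = pkF 7 f' 100 0 := by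
  rw [pkF_range, pkF_range]
  congr 1
  exact List.map_congr_left fun i hi => h i (List.mem_range.1 hi)

theorem key_one : oneK 7 100 = key 1 := by
  rw [oneK, key]
  exact pkF_congr fun i hi => by rw [dif_pos hi]; rfl

theorem key_comp {p q : ℕ} {g h : P} (hp : Rep 7 100 p g) (hq : Rep 7 100 q h) :
    compK 7 100 p q = key (g * h) := by
  rw [compK, key]
  exact pkF_congr fun i hi => by rw [dif_pos hi, hq ⟨i, hi⟩, hp]; rfl

theorem rep_key (g : P) : Rep 7 100 (key g) g := fun i => by
  rw [key, pkF_range, lk_pk_map hw _ i fun j => by rw [dif_pos j.2]; exact (g _).2, dif_pos i.2]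

theorem ne_one_of_key {n : ℕ} {g : P} (h : Rep 7 100 n g) (hn : n = key g) (hne : n ≠ oneK 7 100) : g ≠ 1 :=
  fun e => hne (by rw [hn, e, key_one])

theorem wk_eq_key : ∀ l : List Bool, wk l = key (wp l)
  | [] => key_one
  | c :: l => by
    show compK 7 100 (if c then kb else ka) (wk l) = _
    rw [show wp (c :: l) = (if c then pB else pA) * wp l by simp [wp, wordP]]
    cases c
    · exact key_comp rep_A (rep_wp l)
    · exact key_comp rep_B (rep_wp l)

theorem orderOf_wp {l : List Bool} {p : ℕ} [Fact p.Prime] (ht : testK 7 100 [wk l] p = true)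
    (hne : wk l ≠ oneK 7 100) : orderOf (wp l) = p :=
  orderOf_eq_prime (single (rep_wp l) ht) (ne_one_of_key (rep_wp l) (wk_eq_key l) hne)

theorem A_pow : pA ^ 11 = 1 := single rep_A elems.2.2.2.2.2.2.2.2.2.1

theorem A_ne_one : pA ≠ 1 := by
  intro e
  have h1 := rep_A
  rw [e] at h1
  exact elems.2.2.2.2.2.2.2.2.2.2 (by
    have h2 : wk [false] = key pA := by simpa [wp, wordP] using wk_eq_key [false]
    have h3 : wk [false] = ka := by decide +kernel
    rw [← h3, h2, e, key_one])

theorem orderOf_A : orderOf pA = 11 :=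
  haveI : Fact (Nat.Prime 11) := ⟨by norm_num⟩
  orderOf_eq_prime A_pow A_ne_one

theorem H_le_sign : H ≤ (Equiv.Perm.sign : P →* ℤˣ).ker := by
  refine (Subgroup.closure_le _).2 ?_
  rintro x (rfl | rfl)
  · exact MonoidHom.mem_ker.2 (sign_eq_one_of_odd ⟨5, rfl⟩ A_pow)
  · refine MonoidHom.mem_ker.2 ?_
    rw [← Z_sq, map_mul, Int.units_mul_self]

/-- The three generators of the Sylow subgroup. -/
noncomputable def sEl : List P := [wp s0, wp s1, wp s2]

/-- The Sylow subgroup. -/
noncomputable def S0 : Subgroup P := Subgroup.closure {x | x ∈ sEl}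

theorem sGen_rep {x : P} (hx : x ∈ sEl) : ∃ n ∈ sGens, Rep 7 100 n x := by
  simp only [sEl, List.mem_cons, List.not_mem_nil, or_false] at hx
  rcases hx with rfl | rfl | rfl
  · exact ⟨wk s0, by simp [sGens], rep_wp _⟩
  · exact ⟨wk s1, by simp [sGens], rep_wp _⟩
  · exact ⟨wk s2, by simp [sGens], rep_wp _⟩

theorem s_node {k : ℕ} (hk : sTree.has k = true) :
    ∃ v : ℕ × ℕ × ℕ, sTree.get k = some v ∧ sNodeK sGens k v.1 v.2.1 v.2.2 = true := by
  obtain ⟨v, hv⟩ := Option.isSome_iff_exists.1 hk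
  exact ⟨v, hv, Tree.every_sound s_closed.2.1 (Tree.mem_of_get hv)⟩

theorem S0_rep {g : P} (hg : g ∈ S0) : ∃ k, sTree.has k = true ∧ Rep 7 100 k g := by
  rw [S0, ← Subgroup.mem_toSubmonoid, Subgroup.closure_toSubmonoid_of_finite] at hg
  induction hg using Submonoid.closure_induction_left with
  | one => exact ⟨_, s_closed.1, rep_one hw⟩
  | mul_left x hx y _ ih =>
    obtain ⟨k, hk, hrep⟩ := ih
    obtain ⟨n, hn, hnx⟩ := sGen_rep hx
    obtain ⟨v, -, hv⟩ := s_node hk
    simp only [sNodeK, Bool.and_eq_true] at hv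
    exact ⟨_, List.all_eq_true.1 hv.1 n hn, rep_comp hw hnx hrep⟩

theorem s_reach : ∀ (d k : ℕ) (v : ℕ × ℕ × ℕ), sTree.get k = some v → v.2.2 ≤ d →
    ∃ g ∈ S0, k = key g := by
  intro d
  induction d using Nat.strong_induction_on with
  | _ d ih =>
    intro k v hv hd
    have h := Tree.every_sound s_closed.2.1 (Tree.mem_of_get hv)
    simp only [sNodeK, Bool.and_eq_true, Bool.or_eq_true] at h
    rcases h.2 with h' | h'
    · exact ⟨1, one_mem _, (beq_iff_eq.1 h'.2).trans key_one⟩
    cases hp : sTree.get v.1 with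
    | none => simp [hp] at h'
    | some u =>
      simp only [hp, Bool.and_eq_true, Nat.blt_eq, beq_iff_eq] at h'
      obtain ⟨g, hg, hgk⟩ := ih u.2.2 (by omega) v.1 u hp le_rfl
      have hcase : ∀ j, ∃ x : P, (x ∈ S0 ∨ x = 1) ∧ (Rep 7 100 (sGens.getD j 0) x ∨ 3 ≤ j) := by
        intro j
        match j with
        | 0 => exact ⟨wp s0, Or.inl (Subgroup.subset_closure (by simp [sEl])), Or.inl (rep_wp _)⟩
        | 1 => exact ⟨wp s1, Or.inl (Subgroup.subset_closure (by simp [sEl])), Or.inl (rep_wp _)⟩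
        | 2 => exact ⟨wp s2, Or.inl (Subgroup.subset_closure (by simp [sEl])), Or.inl (rep_wp _)⟩
        | j + 3 => exact ⟨1, Or.inr rfl, Or.inr (by omega)⟩
      obtain ⟨x, hx, hr⟩ := hcase v.2.1
      rcases hr with hr | hj
      · refine ⟨x * g, mul_mem (hx.elim id fun e => e ▸ one_mem _) hg, ?_⟩
        rw [← h'.2, key_comp hr (hgk ▸ rep_key g)]
      · exfalso
        have hb := List.all_eq_true.1 (show (sTree.entries.all fun e => Nat.blt e.2.2.1 3) = true by
          decide +kernel) _ (Tree.mem_of_get hv)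
        simp only [Nat.blt_eq] at hb
        omega

theorem has_iff_mem {k : ℕ} : sTree.has k = true ↔ k ∈ (sTree.entries.map Prod.fst).toFinset := by
  constructor
  · intro h
    obtain ⟨e, he, rfl⟩ := Tree.exists_entry h
    exact List.mem_toFinset.2 (List.mem_map.2 ⟨e, he, rfl⟩)
  · intro h
    exact List.all_eq_true.1 (show ((sTree.entries.map Prod.fst).all fun k => sTree.has k) = true by
      decide +kernel) k (List.mem_toFinset.1 h)

theorem card_S0 : Nat.card S0 = 512 := by
  classical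
  have hnd : (sTree.entries.map Prod.fst).Nodup :=
    ((List.isChain_iff_pairwise).1 s_closed.2.2.1).imp fun h => ne_of_lt h
  let K := (sTree.entries.map Prod.fst).toFinset
  have hK : K.card = 512 := by
    rw [List.toFinset_card_of_nodup hnd, List.length_map, s_closed.2.2.2]
  have himg : (S0 : Set P).ncard = K.card := by
    rw [← Set.ncard_coe_finset]
    refine Set.ncard_congr (fun g _ => key g) (fun g hg => ?_) (fun g h _ _ e => ?_) (fun k hk => ?_)
    · obtain ⟨k, hk, hr⟩ := S0_rep hg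
      obtain ⟨v, hv, -⟩ := s_node hk
      obtain ⟨g', -, rfl⟩ := s_reach v.2.2 k v hv le_rfl
      rw [(rep_key g').inj hr] at hk
      exact Finset.mem_coe.2 (has_iff_mem.1 hk)
    · have h2 := rep_key h
      rw [← e] at h2
      exact (rep_key g).inj h2
    · obtain ⟨v, hv, -⟩ := s_node (has_iff_mem.2 (Finset.mem_coe.1 hk))
      obtain ⟨g, hg, e⟩ := s_reach v.2.2 k v hv le_rfl
      exact ⟨g, hg, e.symm⟩
  rw [← hK, ← himg]
  exact Nat.card_coe_set_eq _

theorem S0_le_H : S0 ≤ H := by
  refine (Subgroup.closure_le _).2 ?_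
  intro x hx
  simp only [sEl, Set.mem_ofPred_eq, List.mem_cons, List.not_mem_nil, or_false] at hx
  rcases hx with rfl | rfl | rfl <;> exact wp_mem _

theorem dvd_card_H : 14784000 ∣ Nat.card H := by
  classical
  have horb : MulAction.orbit H (0 : Fin 100) = Set.univ := by
    refine Set.eq_univ_of_forall fun i => ?_
    obtain ⟨g, hg, e⟩ := reach i
    exact ⟨⟨g, hg⟩, e⟩
  have h100 : 100 * Nat.card (MulAction.stabilizer H (0 : Fin 100)) = Nat.card H := by
    rw [← (MulAction.stabilizer H (0 : Fin 100)).card_mul_index, MulAction.index_stabilizer, horb,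
      Set.ncard_univ, Nat.card_fin, mul_comm]
  have hel : ∀ (l : List Bool) (p : ℕ), p.Prime → testK 7 100 [wk l] p = true → wk l ≠ oneK 7 100 →
      lk 7 (wk l) 0 = 0 → p ∣ Nat.card (MulAction.stabilizer H (0 : Fin 100)) := by
    intro l p hp ht hne h0
    haveI := Fact.mk hp
    have hmem : (⟨wp l, wp_mem l⟩ : H) ∈ MulAction.stabilizer H (0 : Fin 100) :=
      Fin.ext ((rep_wp l 0).symm.trans h0)
    have := orderOf_dvd_natCard (⟨⟨wp l, wp_mem l⟩, hmem⟩ : MulAction.stabilizer H (0 : Fin 100))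
    rwa [← orderOf_injective (MulAction.stabilizer H (0 : Fin 100)).subtype Subtype.coe_injective,
      ← orderOf_injective H.subtype Subtype.coe_injective, Subgroup.subtype_apply,
      Subgroup.subtype_apply, orderOf_wp ht hne] at this
  obtain ⟨e1, e2, e3, e4, e5, e6, e7, e8, e9, -, -⟩ := elems
  have h105 : 105 ∣ Nat.card (MulAction.stabilizer H (0 : Fin 100)) :=
    Nat.Coprime.mul_dvd_of_dvd_of_dvd (m := 15) (n := 7) (by norm_num)
      (Nat.Coprime.mul_dvd_of_dvd_of_dvd (m := 5) (n := 3) (by norm_num) (hel w5 5 (by norm_num) e1 e2 e3)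
        (hel w3 3 (by norm_num) e7 e8 e9)) (hel w7 7 (by norm_num) e4 e5 e6)
  have ha : 10500 ∣ Nat.card H := h100 ▸ Nat.mul_dvd_mul_left 100 h105
  have hb : 11 ∣ Nat.card H := by
    have := orderOf_dvd_natCard (⟨pA, A_mem⟩ : H)
    rwa [← orderOf_injective H.subtype Subtype.coe_injective, Subgroup.subtype_apply, orderOf_A] at this
  have hc : 512 ∣ Nat.card H := card_S0 ▸ Subgroup.card_dvd_of_le S0_le_H
  exact (show 14784000 = Nat.lcm (Nat.lcm 10500 11) 512 by norm_num) ▸ Nat.lcm_dvd (Nat.lcm_dvd ha hb) hc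

theorem H_spec : Nonempty (Cfsg.Spor.HS ≃* H) ∧ Nat.card H = 44352000 ∧ H = Aut ⊓ Equiv.Perm.sign.ker := by
  classical
  obtain ⟨ψ, hψ, hrange⟩ := exists_embedding
  have := isSimple_HS
  have hcard : Nat.card ψ.range = 44352000 := by
    rw [← Nat.card_congr (MonoidHom.ofInjective hψ).toEquiv, card_HS]
  have : IsSimpleGroup ψ.range :=
    SmallGroups.MathieuSimple.isSimpleGroup_congr' (MonoidHom.ofInjective hψ)
  have hsign : ψ.range ≤ Equiv.Perm.sign.ker := by
    let f : Cfsg.Spor.HS →* ℤˣ := Equiv.Perm.sign.comp ψ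
    rcases f.normal_ker.eq_bot_or_eq_top with h | h
    · have hle := Nat.card_le_card_of_injective f ((MonoidHom.ker_eq_bot_iff f).1 h)
      rw [card_HS, Nat.card_eq_fintype_card, Fintype.card_units_int] at hle
      omega
    · rintro _ ⟨g, rfl⟩
      exact MonoidHom.mem_ker.2 (MonoidHom.mem_ker.1 (h ▸ Subgroup.mem_top g : g ∈ f.ker))
  have hle : ψ.range ≤ Aut ⊓ Equiv.Perm.sign.ker := le_inf hrange hsign
  have hE : Nat.card ↥(Aut ⊓ Equiv.Perm.sign.ker) ≤ 44352000 := by
    obtain ⟨k, hk⟩ := Subgroup.card_dvd_of_le (inf_le_left : Aut ⊓ Equiv.Perm.sign.ker ≤ Aut)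
    rw [card_Aut] at hk
    rcases k with _ | _ | k
    · omega
    · exfalso
      have e := Subgroup.eq_of_le_of_card_ge (inf_le_left : Aut ⊓ Equiv.Perm.sign.ker ≤ Aut)
        (by rw [card_Aut]; omega)
      have : pT ∈ Aut ⊓ Equiv.Perm.sign.ker := e.symm ▸ T_mem_Aut
      rw [Subgroup.mem_inf, MonoidHom.mem_ker, sign_T] at this
      exact absurd this.2 (by decide)
    · nlinarith
  have heq := Subgroup.eq_of_le_of_card_ge hle (hcard.symm ▸ hE)
  have hH : H ≤ ψ.range := heq ▸ le_inf H_le_Aut H_le_sign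
  have hHeq : H = ψ.range := by
    by_contra hne
    have hne' : H.subgroupOf ψ.range ≠ ⊤ := fun e => hne (le_antisymm hH (Subgroup.subgroupOf_eq_top.1 e))
    have hdvd := card_dvd_factorial _ hne'
    have hm := (H.subgroupOf ψ.range).card_mul_index
    rw [Nat.card_congr (Subgroup.subgroupOfEquivOfLe hH).toEquiv, hcard] at hm
    obtain ⟨c, hc⟩ := dvd_card_H
    rw [hc] at hm
    have h3 : (H.subgroupOf ψ.range).index ≤ 3 := by
      rcases c with _ | c
      · omega
      · nlinarith
    have hfac := Nat.le_of_dvd (Nat.factorial_pos _) hdvd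
    rw [hcard] at hfac
    have := hfac.trans (Nat.factorial_le h3)
    norm_num [Nat.factorial] at this
  exact ⟨⟨(MonoidHom.ofInjective hψ).trans (MulEquiv.subgroupCongr hHeq.symm)⟩, hHeq ▸ hcard, hHeq.trans heq⟩

end CfsgLib.Sporadic.OutCert.HS
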