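import Cfsg.Agent.Lib.Sporadic.OutCert.HS.Defs

/-!
Kernel checks of the data for the automorphisms of the Higman-Sims group.
-/

set_option autoImplicit false
set_option maxRecDepth 100000
set_option maxHeartbeats 0

namespace CfsgLib.Sporadic.OutCert.HS

theorem base_valid : validK 7 100 ka kai = true ∧ validK 7 100 kb kb = true ∧ validK 7 100 kz kzi = true ∧
    validK 7 100 kt kt = true ∧ compK 7 100 kz kz = kb := by
  decide +kernel

theorem base_aut : autK ka = true ∧ autK kz = true ∧ autK kt = true := by decide +kernel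

theorem srg : srgK = true := by decide +kernel

theorem tau_swaps : ∀ i : Fin 100,
    (((tauSwaps.map fun s => Equiv.swap s.1 s.2).prod i : Fin 100) : ℕ) = lk 7 kt i := by
  decide +kernel

theorem orb_reach : ((List.range 100).all fun i => lk 7 (wk (orbW.getD i [])) 0 == i) = true := by
  decide +kernel

theorem elems : testK 7 100 [wk w5] 5 = true ∧ wk w5 ≠ oneK 7 100 ∧ lk 7 (wk w5) 0 = 0 ∧
    testK 7 100 [wk w7] 7 = true ∧ wk w7 ≠ oneK 7 100 ∧ lk 7 (wk w7) 0 = 0 ∧
    testK 7 100 [wk w3] 3 = true ∧ wk w3 ≠ oneK 7 100 ∧ lk 7 (wk w3) 0 = 0 ∧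
    testK 7 100 [ka] 11 = true ∧ ka ≠ oneK 7 100 := by
  decide +kernel

theorem fixed : ((List.range 100).all fun i =>
    i == 0 || !(lk 7 (wk u0) i == i) || !(lk 7 (wk u1) i == i)) = true ∧
    lk 7 (wk u0) 0 = 0 ∧ lk 7 (wk u1) 0 = 0 := by
  decide +kernel

theorem norm_tab : ((List.range 10).all fun j =>
    compK 7 100 (wk (normTab.getD j ([], 0)).1) (powA (j + 1)) ==
      compK 7 100 (if (normTab.getD j ([], 0)).2 == 1 then ka else powA 2) (wk (normTab.getD j ([], 0)).1)) = true := by
  decide +kernel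

theorem b_mem : lTree.has kb = true := by decide +kernel

theorem cand : wk cW = kc ∧ wk bpW = kbp ∧
    (tests.all fun t => testK 7 100 (testWord 1 kb t.1) t.2) = true := by
  decide +kernel

theorem a_pows : ((List.range 11).all fun i => aPows.getD i 0 == powA i) = true := by
  decide +kernel

end CfsgLib.Sporadic.OutCert.HS
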