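import Cfsg.Agent.Lib.Sporadic.OutCert.HS.Defs

/-!
Kernel checks of the data for the automorphisms of the Higman-Sims group.
-/

set_option autoImplicit false
set_option maxRecDepth 100000
set_option maxHeartbeats 0

namespace CfsgLib.Sporadic.OutCert.HS

theorem p_valid : ((uTab ++ vTab).all fun u => validK 7 100 (wk u.1) u.2) = true := by decide +kernel

theorem p_distinct : pTree.every (fun k i j _ => Nat.blt i uTab.length && Nat.blt j vTab.length && proj i j == k) = true ∧
    List.IsChain (· < ·) (pTree.entries.map Prod.fst) ∧ pTree.entries.length = 5776 := by
  decide +kernel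

end CfsgLib.Sporadic.OutCert.HS
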