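import Cfsg.Agent.Lib.Sporadic.OutCert.HS.Defs

/-!
Kernel checks of the data for the automorphisms of the Higman-Sims group.
-/

set_option autoImplicit false
set_option maxRecDepth 100000
set_option maxHeartbeats 0

namespace CfsgLib.Sporadic.OutCert.HS

theorem s_invs : sTree.every (fun k _ _ _ => invK k) = true := by decide +kernel

end CfsgLib.Sporadic.OutCert.HS
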