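import Cfsg.Agent.Lib.Sporadic.OutCert.HS.Defs

/-!
Kernel checks of the data for the automorphisms of the Higman-Sims group.
-/

set_option autoImplicit false
set_option maxRecDepth 100000
set_option maxHeartbeats 0
set_option Elab.async false

namespace CfsgLib.Sporadic.OutCert.HS

theorem l_surv0 : lTree0.every (fun k _ _ _ => survK (orbA kb) (orbA kc) k) = true := by decide +kernel

theorem l_surv1 : lTree1.every (fun k _ _ _ => survK (orbA kb) (orbA kc) k) = true := by decide +kernel

theorem l_surv2 : lTree2.every (fun k _ _ _ => survK (orbA kb) (orbA kc) k) = true := by decide +kernel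

theorem l_surv3 : lTree3.every (fun k _ _ _ => survK (orbA kb) (orbA kc) k) = true := by decide +kernel

theorem l_surv4 : lTree4.every (fun k _ _ _ => survK (orbA kb) (orbA kc) k) = true := by decide +kernel

theorem l_surv5 : lTree5.every (fun k _ _ _ => survK (orbA kb) (orbA kc) k) = true := by decide +kernel

theorem l_surv6 : lTree6.every (fun k _ _ _ => survK (orbA kb) (orbA kc) k) = true := by decide +kernel

theorem l_surv7 : lTree7.every (fun k _ _ _ => survK (orbA kb) (orbA kc) k) = true := by decide +kernel

theorem l_surv8 : lTree8.every (fun k _ _ _ => survK (orbA kb) (orbA kc) k) = true := by decide +kernel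

theorem l_surv9 : lTree9.every (fun k _ _ _ => survK (orbA kb) (orbA kc) k) = true := by decide +kernel

theorem l_surv10 : lTree10.every (fun k _ _ _ => survK (orbA kb) (orbA kc) k) = true := by decide +kernel

theorem l_surv11 : lTree11.every (fun k _ _ _ => survK (orbA kb) (orbA kc) k) = true := by decide +kernel

theorem l_surv12 : lTree12.every (fun k _ _ _ => survK (orbA kb) (orbA kc) k) = true := by decide +kernel

theorem l_surv13 : lTree13.every (fun k _ _ _ => survK (orbA kb) (orbA kc) k) = true := by decide +kernel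

theorem l_surv14 : lTree14.every (fun k _ _ _ => survK (orbA kb) (orbA kc) k) = true := by decide +kernel

theorem l_surv15 : lTree15.every (fun k _ _ _ => survK (orbA kb) (orbA kc) k) = true := by decide +kernel

theorem l_survTop0 : survK (orbA kb) (orbA kc) 0x380c1608b39385348c4194906abe214a8bf197931b4a490a81656f93870ab40a1500170245cb23075ab466e14b028896ac3ca98c8bb365d7b4ba4a008adb63996ec37783e32f8929d532c383cf8e284d91a1ae1fc585dbd = true := by decide +kernel

theorem l_survTop1 : survK (orbA kb) (orbA kc) 0x440cf11bf7930e8d05382294eac3ad10c1d9e2444296d4b9c176da52a932d041ef908048e9c9a6e5a5451a558a902a16ac32a982eb37453b218dea03f8684836e15d192d9957264b0237f719868e9674d0e302c0c5617bc = true := by decide +kernel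

theorem l_survTop2 : survK (orbA kb) (orbA kc) 0x500d0e0be4845ca6c93972919cccb62a8bf0f29354273811c175a2a5850cac0a06cf1902eaaa36e584b40d698b048896aa00b14e3b33622f70bb0a03ef47c87c41e18b0da0d7977889a3a3860d8f49add9ecc284c525dab = true := by decide +kernel

theorem l_survTop3 : survK (orbA kb) (orbA kc) 0x5c5b088be09487424e3acae7a0c2a739f841d498282a29548b319f094552a8fa315ebc5ee990040d929b02e56cd778d8d85726ecc4e45a8c470edb73f58c1c686881d258a594b45d319813c324172a260b8342d007799b8 = true := by decide +kernel

theorem l_survTop4 : survK (orbA kb) (orbA kc) 0x688c41350dccdc3d4cb320c0ead4b4e84a60339fcc62b0048783e2b939088129ab8bc7774a21dbc9cfe3676258a0af824a34a94df6d4128ec4885916b6dc4336aee987b64114c1010418c9068c42c28e10f5d7adac567c9 = true := by decide +kernel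

theorem l_survTop5 : survK (orbA kb) (orbA kc) 0x7494f331c2d3dcac91a8c0f6db1f43480839f3a6b188988808ef5a4b870948626ae323618dcb85156cc5c0be63b64b96887c260b7bb2b15a788a9a0a984510346cc951a58c147e4a49c1f7cbd8bc7552caf00282a0128c8 = true := by decide +kernel

theorem l_survTop6 : survK (orbA kb) (orbA kc) 0x80ae72d3d7862a16f83588f0c4d40410c9f9f8669c6a919a3ae99b98ad0a0e359692bc0a540388ada58f92c09325e4f03fc5703a82919eca900d09ba17cecc40368c42e59d275cc48906838d5db606a885365dd2454c539 = true := by decide +kernel

theorem l_survTop7 : survK (orbA kb) (orbA kc) 0x8cbeb606090ac05a52487af860a1400a88d9e326a84ce2cb94b8e2c474c6adc469de92310e44a6e255000cca15fc4bad8f1cd48cc7d2e3de7e8aa533e78b0814681bb2e76eda26f149058ae84e166db1cb0cc2813348234 = true := by decide +kernel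

theorem l_survTop8 : survK (orbA kb) (orbA kc) 0x98eb0d442c6edc96f069911146608f4980b144dbe3b6f512da71ab1f87097283c8255a7789ab89ad9cb368caf51130642c20502403a4818f4726fbe88fd39c3646c002e1caaa9c98d2b483acd5a13d7d72c180a94a08298 = true := by decide +kernel

theorem l_survTop9 : survK (orbA kb) (orbA kc) 0xa4d511cbf32e9d93057277359845598e8a16c6c8de9612d88683ea1e170ad032ef871a76aeb8c1b3f14766158d503648537429482b04d2a047868243f12e609cf0c877e58a944c4a6ad8cf5bb886a84c8300194a80a1786 = true := by decide +kernel

theorem l_survTop10 : survK (orbA kb) (orbA kc) 0xb0e16e039324237d69e636101954325e89b40a26de22424dd6230933862ca564f6d5d976182e212607b489563d75eab0ac7ab94ce7e4d287b81014f3e78edfa02a9b6a404ac14d165ca6a006c68469b8848e9ca20684b0e = true := by decide +kernel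

theorem l_survTop11 : survK (orbA kb) (orbA kc) 0xbd25f4a8d8dc27b6b6cbb30d55222e7e89a9e926cc8783148897e2c7970a0417f84890b02c95d3832b316651a090a3ed235754308b89874e5950184a478eb71b40cd7a608ab200e5ebc5c94db674298280ea57a04258093 = true := by decide +kernel

theorem l_survTop12 : survK (orbA kb) (orbA kc) 0xc6755269752ec544718ab90e2ade34d1bd08665835be85ed78f1ae259e5d9402c7a4ac5c9dcd6a2da6523706ccd5eed6bcb1854a47582228476e5183efb15a674e72084fca150a348811e28909163860800089840618807 = true := by decide +kernel

theorem l_survTop13 : survK (orbA kb) (orbA kc) 0xc7057d3646aea14e6d6a98eea1a6c0ce5199f397393b45dc8af19ba0aa8f1167e6182c935a6228ad9a9ca57d8bdc336cbc56aac28b750f1f84e2e4448965b4b57a83e2f0048a2620890003068e0250a920e08205061858f = true := by decide +kernel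

theorem l_survTop14 : survK (orbA kb) (orbA kc) 0xc75ed569d7aed9b186e5bc582ad4a33e9d0a57e6ad56b19b76a8d32439020c23079e3d76c17b190a63aa92b9c3a72ca64a96d1b284f152c48c64da02ef8d43427513f3e589902a486140c1469116044090e3c704040c500 = true := by decide +kernel

theorem l_surv : lTree.every (fun k _ _ _ => survK (orbA kb) (orbA kc) k) = true := by
  simp only [lTree, Tree.every, l_surv0, l_surv1, l_surv2, l_surv3, l_surv4, l_surv5, l_surv6, l_surv7, l_surv8, l_surv9, l_surv10, l_surv11, l_surv12, l_surv13, l_surv14, l_surv15, l_survTop0, l_survTop1, l_survTop2, l_survTop3, l_survTop4, l_survTop5, l_survTop6, l_survTop7, l_survTop8, l_survTop9, l_survTop10, l_survTop11, l_survTop12, l_survTop13, l_survTop14, Bool.and_self]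

end CfsgLib.Sporadic.OutCert.HS
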