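import Cfsg.Agent.Lib.Sporadic.OutCert.HS.Group
import Cfsg.Agent.Lib.Sporadic.OutCert.HS.CheckInv
import Cfsg.Agent.Lib.Sporadic.OutCert.HS.CheckClosed
import Cfsg.Agent.Lib.Sporadic.OutCert.HS.CheckDistinct

/-!
The two classes of involutions are told apart by their sizes.
-/

set_option autoImplicit false
set_option maxRecDepth 10000

namespace CfsgLib.Sporadic.OutCert.HS

attribute [local irreducible] lk pkF allF compK conjK adjN ka kai kb kbp kz kt sTree lTree pTree

/-- The first generator in the group. -/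
noncomputable def hA : H := ⟨pA, A_mem⟩

/-- The second generator in the group. -/
noncomputable def hB : H := ⟨pB, B_mem⟩

/-- The involution of the other class. -/
noncomputable def hP : H := ⟨wp bpW, wp_mem _⟩

theorem rep_hP : Rep 7 100 kbp (hP : P) := by
  have h := rep_wp bpW
  rw [cand.2.1] at h
  exact h

theorem closure_gen : Subgroup.closure ({hA, hB} : Set H) = ⊤ := by
  apply Subgroup.map_injective H.subtype_injective
  rw [MonoidHom.map_closure, ← MonoidHom.range_eq_map, Subgroup.range_subtype, Set.image_pair]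
  rfl

/-- The listed elements. -/
def listed : Set H := {y | ∃ k, lTree.has k = true ∧ Rep 7 100 k (y : P)}

theorem listed_conj (g : H) : ∀ y ∈ listed, g * y * g⁻¹ ∈ listed := by
  have hg : g ∈ (Subgroup.closure ({hA, hB} : Set H)).toSubmonoid := by
    rw [Subgroup.mem_toSubmonoid, closure_gen]; trivial
  rw [Subgroup.closure_toSubmonoid_of_finite] at hg
  induction hg using Submonoid.closure_induction_left with
  | one => intro y hy; simpa using hy
  | mul_left x hx h _ ih =>
    intro y hy
    obtain ⟨k, hk, hr⟩ := ih y hy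
    obtain ⟨p, q, d, hc⟩ := Tree.sound_of_has l_closed hk
    simp only [lNodeK, Bool.and_eq_true] at hc
    have e : ((x * h * y * (x * h)⁻¹ : H) : P) = (x : P) * ((h * y * h⁻¹ : H) : P) * (x : P)⁻¹ := by
      simp [mul_assoc]
    rcases hx with rfl | rfl
    · exact ⟨_, hc.1, e ▸ rep_conj hw rep_A rep_A_inv hr⟩
    · exact ⟨_, hc.2, e ▸ rep_conj hw rep_B rep_B_inv hr⟩

theorem conj_mem_listed {y : H} (h : IsConj hB y) : y ∈ listed := by
  obtain ⟨g, rfl⟩ := isConj_iff.1 h
  exact listed_conj g _ ⟨kb, b_mem, rep_B⟩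

theorem ncard_class_B : {y : H | IsConj hB y}.ncard ≤ 5775 := by
  classical
  let K := (lTree.entries.map Prod.fst).toFinset
  have hK : K.card ≤ 5775 := (List.toFinset_card_le _).trans (by rw [List.length_map, l_length])
  refine le_trans (le_trans ?_ (le_of_eq (Set.ncard_coe_finset K))) hK
  refine Set.ncard_le_ncard_of_injOn (fun y : H => if h : y ∈ listed then h.choose else 0)
    (fun y hy => ?_) (fun y hy z hz e => ?_) K.finite_toSet
  · have hy' := conj_mem_listed hy
    simp only [dif_pos hy']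
    obtain ⟨e, he, hee⟩ := Tree.exists_entry hy'.choose_spec.1
    exact Finset.mem_coe.2 (List.mem_toFinset.2 (List.mem_map.2 ⟨e, he, hee⟩))
  · have hy' := conj_mem_listed hy
    have hz' := conj_mem_listed hz
    simp only [dif_pos hy', dif_pos hz'] at e
    refine Subtype.ext (hy'.choose_spec.2.inj ?_)
    rw [e]
    exact hz'.choose_spec.2

/-- The first eight images, packed. -/
noncomputable def projP (g : P) : ℕ :=
  pk 7 ((List.range 8).map fun x => if h : x < 100 then ((g ⟨x, h⟩ : Fin 100) : ℕ) else 0)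

theorem proj_spec {i j : ℕ} (hi : i < uTab.length) (hj : j < vTab.length) :
    ∃ y : H, IsConj hP y ∧ proj i j = projP (y : P) := by
  have hu : uTab.getD i ([], 0) ∈ uTab ++ vTab := by
    rw [List.getD_eq_getElem _ _ hi]; exact List.mem_append_left _ (List.getElem_mem hi)
  have hv : vTab.getD j ([], 0) ∈ uTab ++ vTab := by
    rw [List.getD_eq_getElem _ _ hj]; exact List.mem_append_right _ (List.getElem_mem hj)
  unfold proj
  generalize uTab.getD i ([], 0) = u at hu ⊢
  generalize vTab.getD j ([], 0) = v at hv ⊢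
  have inv : ∀ t ∈ uTab ++ vTab, Rep 7 100 t.2 (wp t.1)⁻¹ := fun t ht => by
    have hval := List.all_eq_true.1 p_valid t ht
    have h := rep_permOf_inv hval
    rwa [(rep_permOf hval).inj (rep_wp t.1)] at h
  let g : H := ⟨wp u.1, wp_mem _⟩ * ⟨wp v.1, wp_mem _⟩
  refine ⟨g * hP * g⁻¹, isConj_iff.2 ⟨g, rfl⟩, ?_⟩
  have happ := app_eq (List.Forall₂.cons (rep_wp u.1) (List.Forall₂.cons (rep_wp v.1)
    (List.Forall₂.cons rep_hP (List.Forall₂.cons (inv v hv) (List.Forall₂.cons (inv u hu) List.Forall₂.nil)))))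
  unfold projP
  congr 1
  refine List.map_congr_left fun x hx => ?_
  have hx' : x < 100 := lt_of_lt_of_le (List.mem_range.1 hx) (by norm_num)
  rw [dif_pos hx']
  refine (happ ⟨x, hx'⟩).trans ?_
  simp [g, mul_assoc]

theorem ncard_class_P : 5776 ≤ {y : H | IsConj hP y}.ncard := by
  classical
  have hnd : (pTree.entries.map Prod.fst).Nodup :=
    ((List.isChain_iff_pairwise).1 p_distinct.2.1).imp fun h => ne_of_lt h
  let K := (pTree.entries.map Prod.fst).toFinset
  have hK : K.card = 5776 := by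
    rw [List.toFinset_card_of_nodup hnd, List.length_map, p_distinct.2.2]
  rw [← hK]
  refine le_trans ?_ (Set.ncard_image_le (f := fun y : H => projP (y : P)) (Set.toFinite _))
  rw [← Set.ncard_coe_finset]
  refine Set.ncard_le_ncard (fun k hk => ?_) ((Set.toFinite _).image _)
  obtain ⟨e, he, rfl⟩ := List.mem_map.1 (List.mem_toFinset.1 (Finset.mem_coe.1 hk))
  have hc := Tree.every_sound p_distinct.1 he
  simp only [Bool.and_eq_true, Nat.blt_eq, beq_iff_eq] at hc
  obtain ⟨y, hy, hp⟩ := proj_spec hc.1.1 hc.1.2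
  exact ⟨y, hy, hp.symm.trans hc.2⟩

theorem class_lt : {y : H | IsConj hB y}.ncard < {y : H | IsConj hP y}.ncard :=
  lt_of_lt_of_le (Nat.lt_succ_of_le ncard_class_B) ncard_class_P

theorem involution_conj {x : H} (h2 : x * x = 1) (h1 : x ≠ 1) : IsConj hB x ∨ IsConj hP x := by
  classical
  haveI : Fact (Nat.Prime 2) := ⟨Nat.prime_two⟩
  have hcard : Nat.card (S0.subgroupOf H) = 2 ^ (Nat.card H).factorization 2 := by
    rw [Nat.card_congr (Subgroup.subgroupOfEquivOfLe S0_le_H).toEquiv, card_S0, H_spec.2.1]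
    have : (44352000 : ℕ).factorization 2 = 9 := by
      refine le_antisymm ?_ ((Nat.prime_two.pow_dvd_iff_le_factorization (by norm_num)).1 (by norm_num))
      by_contra h
      have := (Nat.prime_two.pow_dvd_iff_le_factorization (k := 10) (by norm_num : (44352000 : ℕ) ≠ 0)).2 (by omega)
      norm_num at this
    rw [this]; norm_num
  have hp : IsPGroup 2 (Subgroup.zpowers x) := by
    refine IsPGroup.of_card (n := 1) ?_
    rw [Nat.card_zpowers, pow_one]
    exact orderOf_eq_prime (by rw [pow_two]; exact h2) h1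
  obtain ⟨Q, hQ⟩ := hp.exists_le_sylow
  obtain ⟨g, hg⟩ := MulAction.exists_smul_eq H Q (Sylow.ofCard (S0.subgroupOf H) hcard)
  have hy : g * x * g⁻¹ ∈ S0.subgroupOf H := by
    have h := congrArg (fun R : Sylow 2 H => (R : Subgroup H)) hg
    simp only [Sylow.coe_subgroup_smul] at h
    rw [← show _ = S0.subgroupOf H from h]
    exact ⟨x, hQ (Subgroup.mem_zpowers x), rfl⟩
  have hconj : IsConj x (g * x * g⁻¹) := isConj_iff.2 ⟨g, rfl⟩
  have hy2 : g * x * g⁻¹ * (g * x * g⁻¹) = 1 := by
    rw [show g * x * g⁻¹ * (g * x * g⁻¹) = g * (x * x) * g⁻¹ by group, h2]; group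
  have hy1 : g * x * g⁻¹ ≠ 1 := fun e => h1 (conj_eq_one_iff.1 e)
  suffices IsConj hB (g * x * g⁻¹) ∨ IsConj hP (g * x * g⁻¹) by
    rcases this with h | h
    · exact Or.inl (h.trans hconj.symm)
    · exact Or.inr (h.trans hconj.symm)
  generalize g * x * g⁻¹ = y at hy hy2 hy1 ⊢
  obtain ⟨k, hk, hr⟩ := S0_rep (Subgroup.mem_subgroupOf.1 hy)
  obtain ⟨p, q, d, hc⟩ := Tree.sound_of_has s_invs hk
  obtain ⟨v, hv, -⟩ := s_node hk
  obtain ⟨g', -, hkey⟩ := s_reach v.2.2 k v hv le_rfl
  obtain rfl : g' = (y : P) := (hkey ▸ rep_key g').inj hr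
  have hk1 : (k == oneK 7 100) = false := by
    refine beq_eq_false_iff_ne.2 fun e => hy1 (Subtype.ext ?_)
    rw [hkey, key_one] at e
    exact (rep_key _).inj (e ▸ rep_key 1)
  have hsq : (compK 7 100 k k == oneK 7 100) = true := by
    rw [beq_iff_eq, key_comp hr hr, key_one]
    exact congrArg key (congrArg Subtype.val hy2)
  simp only [invK, hk1, hsq, Bool.not_true, Bool.or_false, Bool.false_or, List.any_eq_true, Bool.and_eq_true,
    beq_iff_eq] at hc
  obtain ⟨e, -, -, he⟩ := hc
  have main : ∀ (t : H) (kt' : ℕ), Rep 7 100 kt' (t : P) →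
      compK 7 100 (wk e.2.1) kt' = compK 7 100 k (wk e.2.1) → IsConj t y := by
    intro t kt' ht heq
    have h := rep_comp hw (rep_wp e.2.1) ht
    rw [heq] at h
    have h' := h.inj (rep_comp hw hr (rep_wp e.2.1))
    refine isConj_iff.2 ⟨⟨wp e.2.1, wp_mem _⟩, Subtype.ext ?_⟩
    show wp e.2.1 * (t : P) * (wp e.2.1)⁻¹ = (y : P)
    rw [h', mul_inv_cancel_right]
  rcases hflag : e.2.2.2 with _ | _
  · rw [hflag] at he
    exact Or.inl (main hB kb rep_B (by simpa using he))
  · rw [hflag] at he
    exact Or.inr (main hP kbp rep_hP (by simpa using he))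

theorem conj_of_class_eq {x : H} (h2 : x * x = 1) (h1 : x ≠ 1)
    (hcl : {y : H | IsConj x y}.ncard = {y : H | IsConj hB y}.ncard) : x ∈ listed := by
  rcases involution_conj h2 h1 with h | h
  · exact conj_mem_listed h
  · exfalso
    have e : {y : H | IsConj x y} = {y : H | IsConj hP y} :=
      Set.ext fun y => ⟨fun hy => h.trans hy, fun hy => h.symm.trans hy⟩
    rw [e] at hcl
    exact absurd hcl class_lt.ne'

end CfsgLib.Sporadic.OutCert.HS
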