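import Cfsg.Agent.Lib.Sporadic.OutCert.HS.CheckBasic
import Cfsg.Agent.Lib.Sporadic.HSGraphCard

/-!
The graph on 100 points of the data, its automorphism group, and the Higman-Sims group inside it.
-/

set_option autoImplicit false
set_option maxRecDepth 10000

namespace CfsgLib.Sporadic.OutCert.HS

open Cfsg

/-- Permutations of the points. -/
abbrev P : Type := Equiv.Perm (Fin 100)

theorem hw : 100 ≤ 2 ^ 7 := by norm_num

/-- The element of order 11. -/
noncomputable def pA : P := permOf ka kai base_valid.1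

/-- The involution. -/
noncomputable def pB : P := permOf kb kb base_valid.2.1

/-- The square root of the involution. -/
noncomputable def pZ : P := permOf kz kzi base_valid.2.2.1

/-- The outer involution. -/
noncomputable def pT : P := permOf kt kt base_valid.2.2.2.1

theorem rep_A : Rep 7 100 ka pA := rep_permOf _
theorem rep_A_inv : Rep 7 100 kai pA⁻¹ := rep_permOf_inv _
theorem rep_B : Rep 7 100 kb pB := rep_permOf _
theorem rep_B_inv : Rep 7 100 kb pB⁻¹ := rep_permOf_inv _
theorem rep_Z : Rep 7 100 kz pZ := rep_permOf _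
theorem rep_T : Rep 7 100 kt pT := rep_permOf _

theorem Z_sq : pZ * pZ = pB := by
  have h := rep_comp hw rep_Z rep_Z
  rw [base_valid.2.2.2.2] at h
  exact h.inj rep_B

/-- An element given by a word. -/
noncomputable abbrev wp (l : List Bool) : P := wordP pA pB l

theorem rep_wp (l : List Bool) : Rep 7 100 (wk l) (wp l) := rep_word hw rep_A rep_B l

/-- The subgroup generated by the two permutations. -/
noncomputable def H : Subgroup P := Subgroup.closure {pA, pB}

theorem A_mem : pA ∈ H := Subgroup.subset_closure (by simp)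
theorem B_mem : pB ∈ H := Subgroup.subset_closure (by simp)

theorem wp_mem (l : List Bool) : wp l ∈ H := by
  refine list_prod_mem fun x hx => ?_
  obtain ⟨c, -, rfl⟩ := List.mem_map.1 hx
  cases c
  · exact A_mem
  · exact B_mem

theorem reach (i : Fin 100) : ∃ g ∈ H, g 0 = i := by
  refine ⟨wp (orbW.getD i []), wp_mem _, Fin.ext ((rep_wp _ 0).symm.trans ?_)⟩
  exact beq_iff_eq.1 (List.all_eq_true.1 orb_reach i (List.mem_range.2 i.2))

theorem srg_facts : (∀ i j : Fin 100, adjB i i = false ∧ adjB i j = adjB j i) ∧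
    ∀ j : Fin 100, (List.range 100).countP (fun k => adjB 0 k && adjB j k) =
      if (j : ℕ) = 0 then 22 else if adjB 0 j then 0 else 6 := by
  have h := srg
  simp only [srgK, Bool.and_eq_true, allF_iff, beq_iff_eq] at h
  refine ⟨fun i j => ⟨(h.1 i i.2).1, (h.1 i i.2).2 j j.2⟩, fun j => ?_⟩
  exact h.2 j j.2

/-- The graph. -/
def gr : SimpleGraph (Fin 100) where
  Adj i j := adjB i j = true
  symm := ⟨fun i j h => ((srg_facts.1 i j).2.symm).trans h⟩
  loopless := ⟨fun i h => Bool.false_ne_true ((srg_facts.1 i i).1.symm.trans h)⟩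

noncomputable instance : DecidableRel gr.Adj := fun i j => inferInstanceAs (Decidable (adjB i j = true))

/-- The automorphisms. -/
def Aut : Subgroup P where
  carrier := {g | ∀ i j, gr.Adj (g i) (g j) ↔ gr.Adj i j}
  one_mem' _ _ := Iff.rfl
  mul_mem' {g h} hg hh i j := (hg (h i) (h j)).trans (hh i j)
  inv_mem' {g} hg i j := by
    have := hg (g⁻¹ i) (g⁻¹ j)
    rw [Equiv.Perm.inv_def, Equiv.apply_symm_apply, Equiv.apply_symm_apply] at this
    exact this.symm

theorem aut_of_check {n : ℕ} {g : P} (h : Rep 7 100 n g) (hc : autK n = true) : g ∈ Aut := by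
  intro i j
  show adjB (g i) (g j) = true ↔ adjB i j = true
  simp only [autK, allF_iff, beq_iff_eq] at hc
  rw [← h i, ← h j, hc i i.2 j j.2]

theorem Z_mem_Aut : pZ ∈ Aut := aut_of_check rep_Z base_aut.2.1
theorem T_mem_Aut : pT ∈ Aut := aut_of_check rep_T base_aut.2.2

theorem H_le_Aut : H ≤ Aut := by
  refine (Subgroup.closure_le _).2 ?_
  rintro x (rfl | rfl)
  · exact aut_of_check rep_A base_aut.1
  · exact Z_sq ▸ mul_mem Z_mem_Aut Z_mem_Aut

theorem countP_finRange (n : ℕ) (p : ℕ → Bool) :
    (Finset.univ.filter fun k : Fin n => p k = true).card = (List.range n).countP p := by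
  rw [← List.map_coe_finRange_eq_range, List.countP_map, List.countP_eq_length_filter]
  rw [← List.toFinset_card_of_nodup ((List.nodup_finRange n).filter _)]
  congr 1
  ext k
  simp

theorem common_zero (j : Fin 100) :
    (Finset.univ.filter fun k => gr.Adj 0 k ∧ gr.Adj j k).card =
      if j = 0 then 22 else if gr.Adj 0 j then 0 else 6 := by
  have h := srg_facts.2 j
  rw [← countP_finRange 100] at h
  have e : (Finset.univ.filter fun k : Fin 100 => gr.Adj 0 k ∧ gr.Adj j k) =
      Finset.univ.filter fun k : Fin 100 => (adjB 0 k && adjB j k) = true := by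
    refine Finset.filter_congr fun k _ => ?_
    show (adjB _ _ = true ∧ adjB _ _ = true) ↔ _
    rw [Bool.and_eq_true]; rfl
  rw [e]
  refine h.trans ?_
  refine if_congr (Fin.val_eq_zero_iff) rfl (if_congr ?_ rfl rfl)
  exact Iff.rfl

theorem common (i j : Fin 100) :
    (Finset.univ.filter fun k => gr.Adj i k ∧ gr.Adj j k).card =
      if j = i then 22 else if gr.Adj i j then 0 else 6 := by
  obtain ⟨g, hg, rfl⟩ := reach i
  obtain ⟨j, rfl⟩ := g.surjective j
  have ha := H_le_Aut hg
  have e : (Finset.univ.filter fun k => gr.Adj (g 0) k ∧ gr.Adj (g j) k) =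
      (Finset.univ.filter fun k => gr.Adj 0 k ∧ gr.Adj j k).image g := by
    ext k
    obtain ⟨k, rfl⟩ := g.surjective k
    simp [ha _ _, g.injective.eq_iff]
  rw [e, Finset.card_image_of_injective _ g.injective, common_zero]
  simp [ha _ _, g.injective.eq_iff]

theorem isSRG : gr.IsSRGWith 100 22 0 6 where
  card := Fintype.card_fin _
  regular i := by
    rw [← SimpleGraph.card_neighborFinset_eq_degree, SimpleGraph.neighborFinset_eq_filter]
    simpa using common i i
  of_adj i j h := by
    rw [← Fintype.card_congr (Equiv.subtypeEquivRight fun c => (gr.mem_commonNeighbors).symm),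
      Fintype.card_subtype, common i j, if_neg (gr.ne_of_adj h).symm, if_pos h]
  of_not_adj i j hne h := by
    rw [← Fintype.card_congr (Equiv.subtypeEquivRight fun c => (gr.mem_commonNeighbors).symm),
      Fintype.card_subtype, common i j, if_neg hne.symm, if_neg h]

/-- Automorphisms as graph isomorphisms. -/
def autEquiv : Aut ≃ (gr ≃g gr) where
  toFun g := ⟨g.1, fun {a b} => g.2 a b⟩
  invFun f := ⟨f.toEquiv, fun _ _ => f.map_rel_iff'⟩
  left_inv _ := rfl
  right_inv _ := rfl

theorem card_Aut : Nat.card Aut = 88704000 := by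
  classical
  obtain ⟨f⟩ := SmallGroups.HSGraph.exists_iso isSRG 0
  rw [Nat.card_congr autEquiv, ← HSGraphCard.card_aut (SmallGroups.HSGraph.card_pt isSRG 0)
    (SmallGroups.HSGraph.isSteiner isSRG 0)]
  exact Nat.card_congr
    { toFun := fun e => f.trans (e.trans f.symm)
      invFun := fun e => f.symm.trans (e.trans f)
      left_inv := fun e => RelIso.ext fun v => by simp
      right_inv := fun e => RelIso.ext fun v => by simp }

open SmallGroups SmallGroups.LeechVectorStab in
/-- The group of the definition is the joint stabiliser of the lattice library. -/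
theorem nonempty_iso_G2 : Nonempty (Cfsg.Spor.HS ≃* LeechTwoPoint.G2 LeechHS.vZ) := by
  have hU : Spor.leechU' = LeechHS.vZ := Subtype.ext (funext fun q => by
    show Spor.vecU' q = _
    rw [LeechHS.coe_vZ]; revert q; decide +kernel)
  have hV : Spor.leechV = -v48 := Subtype.ext (funext fun q => by
    show Spor.vecV q = -((v48 : leechLattice) : GolayPt → ℤ) q
    rw [LeechPairs.coe_v48]; revert q; decide +kernel)
  have key : ∀ g : Equiv.Perm leechLattice, g ∈ Co0 → (g Spor.leechV = Spor.leechV ↔ g v48 = v48) := by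
    intro g hg
    rw [hV]
    have h := map_neg (AddMonoidHom.mk' g hg.1) v48
    simp only [AddMonoidHom.mk'_apply] at h
    rw [h, neg_inj]
  have mem : ∀ g : Equiv.Perm leechLattice, g ∈ Spor.HS ↔
      g ∈ Co0 ∧ g v48 = v48 ∧ g LeechHS.vZ = LeechHS.vZ := by
    intro g
    simp only [Spor.HS, Spor.Co3, Subgroup.mem_inf, MulAction.mem_stabilizer_iff, Equiv.Perm.smul_def, hU]
    exact ⟨fun ⟨⟨h1, h2⟩, h3⟩ => ⟨h1, (key g h1).1 h2, h3⟩, fun ⟨h1, h2, h3⟩ => ⟨⟨h1, (key g h1).2 h2⟩, h3⟩⟩
  exact ⟨{
    toFun := fun g => ⟨⟨g.1, ((mem g.1).1 g.2).1⟩, ((mem g.1).1 g.2).2.1, ((mem g.1).1 g.2).2.2⟩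
    invFun := fun g => ⟨g.1.1, (mem _).2 ⟨g.1.2, g.2.1, g.2.2⟩⟩
    left_inv := fun _ => rfl
    right_inv := fun _ => rfl
    map_mul' := fun _ _ => rfl }⟩

open SmallGroups SmallGroups.LeechVectorStab in
theorem exists_embedding :
    ∃ ψ : Cfsg.Spor.HS →* P, Function.Injective ψ ∧ ψ.range ≤ Aut := by
  classical
  obtain ⟨e⟩ := nonempty_iso_G2
  obtain ⟨f⟩ := HSGraph.unique HSGraphAut.isSRG isSRG
  let ψ : LeechTwoPoint.G2 LeechHS.vZ →* P :=
    MonoidHom.mk' (fun g => (f.symm.trans ((HSGraphAut.autOf g).trans f)).toEquiv) fun g h => Equiv.ext fun v => by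
      show f (HSGraphAut.autOf (g * h) (f.symm v)) =
        f (HSGraphAut.autOf g (f.symm (f (HSGraphAut.autOf h (f.symm v)))))
      rw [RelIso.symm_apply_apply]
      refine congrArg f (Subtype.ext ?_)
      show ((g * h : LeechTwoPoint.G2 LeechHS.vZ) : Co0) • ((f.symm v : HSGraphAut.W) : leechLattice) = _
      rw [Subgroup.coe_mul, mul_smul]
      rfl
  have hsimple := LeechHS.isHS_base.1
  have hψ : Function.Injective ψ := by
    rw [← MonoidHom.ker_eq_bot_iff]
    refine (ψ.normal_ker).eq_bot_or_eq_top.resolve_right fun htop => ?_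
    obtain ⟨x, y, hne⟩ : ∃ x y : HSGraphAut.W, x ≠ y := by
      have : Nontrivial HSGraphAut.W :=
        Finite.one_lt_card_iff_nontrivial.1 (by rw [HSGraphAut.card_W]; norm_num)
      exact exists_pair_ne _
    obtain ⟨g, g1, g2, g3⟩ := LeechHS.transitive_pts v48 LeechHS.vZ LeechVectorStab.norm_v48
      LeechHS.norm_vZ HSGraphAut.dot_v48_vZ x y x.2 y.2
    have h1 : ψ ⟨g, g1, g2⟩ = 1 := MonoidHom.mem_ker.1 (htop ▸ Subgroup.mem_top _)
    have h2 : f (HSGraphAut.autOf ⟨g, g1, g2⟩ (f.symm (f x))) = f x :=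
      congrArg (fun p : P => p (f x)) h1
    rw [RelIso.symm_apply_apply] at h2
    exact hne (Subtype.ext ((congrArg Subtype.val (f.injective h2)).symm.trans g3))
  refine ⟨ψ.comp e.toMonoidHom, hψ.comp e.injective, ?_⟩
  rintro _ ⟨g, rfl⟩ i j
  exact (f.symm.trans ((HSGraphAut.autOf (e g)).trans f)).map_rel_iff

theorem card_HS : Nat.card Cfsg.Spor.HS = 44352000 := by
  obtain ⟨e⟩ := nonempty_iso_G2
  rw [Nat.card_congr e.toEquiv, SmallGroups.LeechHS.card_G2]

theorem isSimple_HS : IsSimpleGroup Cfsg.Spor.HS := by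
  obtain ⟨e⟩ := nonempty_iso_G2
  have := SmallGroups.LeechHS.isHS_base.1
  exact SmallGroups.MathieuSimple.isSimpleGroup_congr' e.symm

end CfsgLib.Sporadic.OutCert.HS
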