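import Cfsg.Agent.Lib.Sporadic.OutCert.HS.Classes
import Cfsg.Agent.Lib.Sporadic.OutCert.HS.CheckSurv

/-!
The outer automorphism group of the Higman-Sims group has order 2.
-/

set_option autoImplicit false
set_option maxRecDepth 10000

namespace CfsgLib.Sporadic.OutCert.HS

open Cfsg

attribute [local irreducible] lk pkF allF compK conjK adjN ka kai kb kbp kc kz kt sTree lTree pTree aPows tests

theorem rep_powA (j : ℕ) : Rep 7 100 (powA j) (pA ^ j) := by
  have h := rep_wp (List.replicate j false)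
  have e : wp (List.replicate j false) = pA ^ j := by simp [wp, wordP]
  rw [e] at h
  exact h

theorem orderOf_hA : orderOf hA = 11 := by
  rw [← orderOf_injective H.subtype Subtype.coe_injective]
  exact orderOf_A

theorem rep_aPows {i : ℕ} (hi : i < 11) : Rep 7 100 (aPows.getD i 0) (pA ^ i) := by
  have h := List.all_eq_true.1 a_pows i (List.mem_range.2 hi)
  rw [beq_iff_eq.1 h]
  exact rep_powA i

/-- The product of a test. -/
noncomputable def testProd {G : Type*} [Group G] (a x : G) (es : List ℕ) : G :=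
  (es.flatMap fun e => [a ^ e, x]).prod

theorem test_eq {m k : ℕ} {x : H} (hk : Rep 7 100 k (x : P)) (t : List ℕ × ℕ) :
    testK 7 100 (testWord m k t.1) t.2 = true ↔ testProd (hA ^ m) x t.1 ^ t.2 = 1 := by
  have hrep : ∀ es : List ℕ, List.Forall₂ (Rep 7 100) (testWord m k es)
      (es.flatMap fun e => [pA ^ (e * m % 11), (x : P)]) := by
    intro es
    induction es with
    | nil => exact List.Forall₂.nil
    | cons e es ih => exact List.Forall₂.cons (rep_aPows (Nat.mod_lt _ (by norm_num))) (List.Forall₂.cons hk ih)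
  rw [test_iff (hrep t.1)]
  have key : ((testProd (hA ^ m) x t.1 : H) : P) =
      (t.1.flatMap fun e => [pA ^ (e * m % 11), (x : P)]).prod := by
    rw [testProd, Submonoid.coe_list_prod H.toSubmonoid, List.map_flatMap]
    congr 1
    refine List.flatMap_congr fun e _ => ?_
    simp only [List.map_cons, List.map_nil, Subgroup.coe_pow, hA]
    rw [← pow_mul, mul_comm m e, ← orderOf_A, pow_mod_orderOf]
  rw [← key]
  exact_mod_cast Iff.rfl

theorem tests_base : ∀ t ∈ tests, testProd hA hB t.1 ^ t.2 = 1 := by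
  intro t ht
  have h := (test_eq (m := 1) (x := hB) rep_B t).1 (List.all_eq_true.1 cand.2.2 t ht)
  rwa [pow_one] at h

theorem testProd_map (α : MulAut H) (x : H) (es : List ℕ) :
    α (testProd hA x es) = testProd (α hA) (α x) es := by
  rw [testProd, map_list_prod, List.map_flatMap, testProd]
  congr 1
  refine List.flatMap_congr fun e _ => ?_
  simp

theorem hB_sq : hB * hB = 1 := by
  refine Subtype.ext ?_
  show pB * pB = 1
  calc pB * pB = pB * pB⁻¹ := congrArg (pB * ·) (rep_B.inj rep_B_inv)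
    _ = 1 := mul_inv_cancel pB

/-- The candidate. -/
noncomputable def hC : H := ⟨wp cW, wp_mem _⟩

theorem rep_hC : Rep 7 100 kc (hC : P) := by
  have h := rep_wp cW
  rw [cand.1] at h
  exact h

theorem orbit_of_key {k k0 : ℕ} {x y : H} (hx : Rep 7 100 k (x : P)) (hy : Rep 7 100 k0 (y : P))
    (h : (orbA k0).contains k = true) : ∃ i : ℕ, x = hA ^ i * y * (hA ^ i)⁻¹ := by
  rw [List.contains_iff_mem, orbA, List.mem_map] at h
  obtain ⟨i, hi, rfl⟩ := h
  have hi' := List.mem_range.1 hi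
  have hinv : pA ^ (11 - i) = (pA ^ i)⁻¹ := by
    refine eq_inv_of_mul_eq_one_left ?_
    rw [← pow_add, Nat.sub_add_cancel hi'.le]
    exact A_pow
  have hr := rep_conj hw (rep_powA i) (hinv ▸ rep_powA (11 - i)) hy
  refine ⟨i, Subtype.ext ?_⟩
  simp only [Subgroup.coe_mul, Subgroup.coe_inv, Subgroup.coe_pow, hA]
  exact hx.inj hr

theorem survivor (α : MulAut H) :
    (α hA = hA → ∃ i : ℕ, α hB = hA ^ i * hB * (hA ^ i)⁻¹) ∧
      (α hA = hA ^ 2 → ∃ i : ℕ, α hB = hA ^ i * hC * (hA ^ i)⁻¹) := by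
  have h2 : α hB * α hB = 1 := by rw [← map_mul, hB_sq, map_one]
  have h1 : α hB ≠ 1 := by
    rw [Ne, EmbeddingLike.map_eq_one_iff]
    intro e
    have hgen := closure_gen
    rw [e] at hgen
    have h3 : (⊤ : Subgroup H) ≤ Subgroup.zpowers hA := by
      rw [← hgen, Subgroup.closure_le]
      rintro z (rfl | rfl)
      · exact Subgroup.mem_zpowers _
      · exact one_mem _
    have h4 := Subgroup.card_le_of_le h3
    rw [Subgroup.card_top, H_spec.2.1, Nat.card_zpowers, orderOf_hA] at h4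
    omega
  obtain ⟨k, hk, hr⟩ := conj_of_class_eq h2 h1 (ncard_class_aut α hB)
  obtain ⟨p, q, d, hc⟩ := Tree.sound_of_has l_surv hk
  simp only [survK, Bool.and_eq_true, Bool.or_eq_true, List.any_eq_true, Bool.not_eq_true'] at hc
  have pass : ∀ m, α hA = hA ^ m → ¬ ∃ t ∈ tests, testK 7 100 (testWord m k t.1) t.2 = false := by
    rintro m hm ⟨t, ht, hf⟩
    have h := congrArg α (tests_base t ht)
    rw [map_pow, map_one, testProd_map, hm] at h
    rw [(test_eq hr t).2 h] at hf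
    simp at hf
  exact ⟨fun hm => orbit_of_key hr rep_B (hc.1.resolve_left (pass 1 (by rw [hm, pow_one]))),
    fun hm => orbit_of_key hr rep_hC (hc.2.resolve_left (pass 2 hm))⟩

theorem norm_pow (j : ℕ) (h0 : 0 < j) (h11 : j < 11) :
    ∃ g : H, g * hA ^ j * g⁻¹ = hA ∨ g * hA ^ j * g⁻¹ = hA ^ 2 := by
  have h := beq_iff_eq.1 (List.all_eq_true.1 norm_tab (j - 1) (List.mem_range.2 (by omega)))
  rw [Nat.sub_add_cancel h0] at h
  refine ⟨⟨wp (normTab.getD (j - 1) ([], 0)).1, wp_mem _⟩, ?_⟩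
  have hL := rep_comp hw (rep_wp (normTab.getD (j - 1) ([], 0)).1) (rep_powA j)
  rw [h] at hL
  by_cases hflag : ((normTab.getD (j - 1) ([], 0)).2 == 1) = true
  · left
    rw [if_pos hflag] at hL
    have he := hL.inj (rep_comp hw rep_A (rep_wp _))
    refine Subtype.ext ?_
    show wp _ * pA ^ j * (wp _)⁻¹ = pA
    rw [he, mul_inv_cancel_right]
  · right
    rw [if_neg hflag] at hL
    have he := hL.inj (rep_comp hw (rep_powA 2) (rep_wp _))
    refine Subtype.ext ?_
    show wp _ * pA ^ j * (wp _)⁻¹ = pA ^ 2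
    rw [he, mul_inv_cancel_right]

theorem T_normalizes {g : P} (hg : g ∈ H) : pT * g * pT⁻¹ ∈ H ∧ pT⁻¹ * g * pT ∈ H := by
  rw [H_spec.2.2] at hg ⊢
  obtain ⟨ha, hs⟩ := Subgroup.mem_inf.1 hg
  rw [MonoidHom.mem_ker] at hs
  refine ⟨Subgroup.mem_inf.2 ⟨mul_mem (mul_mem T_mem_Aut ha) (inv_mem T_mem_Aut), ?_⟩,
    Subgroup.mem_inf.2 ⟨mul_mem (mul_mem (inv_mem T_mem_Aut) ha) T_mem_Aut, ?_⟩⟩
  · rw [MonoidHom.mem_ker, map_mul, map_mul, map_inv, hs, mul_one, mul_inv_cancel]
  · rw [MonoidHom.mem_ker, map_mul, map_mul, map_inv, hs, mul_one, inv_mul_cancel]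

theorem exists_outer : ∃ β : MulAut H, β ∉ Inn H := by
  refine ⟨{
    toFun := fun x => ⟨pT * (x : P) * pT⁻¹, (T_normalizes x.2).1⟩
    invFun := fun x => ⟨pT⁻¹ * (x : P) * pT, (T_normalizes x.2).2⟩
    left_inv := fun x => Subtype.ext (by simp [mul_assoc])
    right_inv := fun x => Subtype.ext (by simp [mul_assoc])
    map_mul' := fun x y => Subtype.ext (by simp [mul_assoc]) }, ?_⟩
  rintro ⟨h, hh⟩
  have hcomm : ∀ g ∈ H, (h : P)⁻¹ * pT * g = g * ((h : P)⁻¹ * pT) := by
    intro g hg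
    have e : (h : P) * g * (h : P)⁻¹ = pT * g * pT⁻¹ :=
      congrArg Subtype.val (DFunLike.congr_fun hh (⟨g, hg⟩ : H))
    calc (h : P)⁻¹ * pT * g = (h : P)⁻¹ * (pT * g * pT⁻¹) * pT := by group
      _ = g * ((h : P)⁻¹ * pT) := by rw [← e]; group
  have hfix : ∀ y : Fin 100, (∀ g ∈ H, g 0 = 0 → g y = y) → y = 0 := by
    intro y hy
    have h0 := hy _ (wp_mem u0) (Fin.ext ((rep_wp u0 0).symm.trans fixed.2.1))
    have h1 := hy _ (wp_mem u1) (Fin.ext ((rep_wp u1 0).symm.trans fixed.2.2))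
    have hc := List.all_eq_true.1 fixed.1 y (List.mem_range.2 y.2)
    rw [rep_wp u0 y, rep_wp u1 y, h0, h1] at hc
    simp only [BEq.rfl, Bool.not_true, Bool.or_false, beq_iff_eq] at hc
    exact Fin.ext hc
  have hone := perm_eq_one H 0 reach hfix _ hcomm
  rw [inv_mul_eq_one] at hone
  have hT : Equiv.Perm.sign pT = 1 := hone ▸ MonoidHom.mem_ker.1 (H_le_sign h.2)
  rw [sign_T] at hT
  exact absurd hT (by decide)

theorem card_out : Nat.card (Out Cfsg.Spor.HS) = 2 := by
  obtain ⟨e⟩ := H_spec.1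
  rw [card_out_congr e]
  haveI : Fact (Nat.Prime 11) := ⟨by norm_num⟩
  refine le_antisymm (card_out_le_two (p := 11) (by rw [H_spec.2.1]; norm_num) orderOf_hA closure_gen
    (hA ^ 2) hC ((Commute.refl hA).pow_right 2) norm_pow (fun α => (survivor α).1) (fun α => (survivor α).2)) ?_
  obtain ⟨β, hβ⟩ := exists_outer
  have : Nontrivial (Out H) :=
    ⟨⟨QuotientGroup.mk β, 1, fun e => hβ ((QuotientGroup.eq_one_iff β).1 e)⟩⟩
  exact Finite.one_lt_card

end CfsgLib.Sporadic.OutCert.HS
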